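import Mathlib

/-!
# Families avoiding low-height primes (helper26)

`exists_family`: in a Noetherian ring, for an ideal `I` and `r : ℕ` there are `f : Fin r → R`
in `I` such that every prime containing the `f i` but not `I` has height at least `r`.
-/

set_option autoImplicit false

namespace Groth.Agent.Lib.Helper26.ArithRank

theorem exists_family {R : Type*} [CommRing R] [IsNoetherianRing R] (I : Ideal R) (r : ℕ) :
    ∃ f : Fin r → R, (∀ i, f i ∈ I) ∧ ∀ (p : Ideal R) [p.IsPrime],
      Ideal.span (Set.range f) ≤ p → ¬ I ≤ p → (r : ℕ∞) ≤ p.height := by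
  induction r with
  | zero => exact ⟨Fin.elim0, fun i => i.elim0, fun p _ _ _ => by simp⟩
  | succ r ih =>
    obtain ⟨f, hfI, hf⟩ := ih
    set J := Ideal.span (Set.range f) with hJ
    let S := {q : Ideal R | q ∈ J.minimalPrimes ∧ ¬ I ≤ q}
    have hS : S.Finite := J.finite_minimalPrimes_of_isNoetherianRing.subset (fun _ h => h.1)
    have hnot : ¬ (I : Set R) ⊆ ⋃ q ∈ (hS.toFinset : Set (Ideal R)), (q : Set R) := by
      rw [Ideal.subset_union_prime ⊥ ⊥ (fun q hq _ _ => by
        rw [Set.Finite.mem_toFinset] at hq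
        exact hq.1.1.1)]
      push Not
      intro q hq
      rw [Set.Finite.mem_toFinset] at hq
      exact hq.2
    simp only [Set.not_subset, Set.mem_iUnion, not_exists, Finset.mem_coe, Set.Finite.mem_toFinset] at hnot
    obtain ⟨x, hxI, hx⟩ := hnot
    refine ⟨Fin.snoc f x, fun i => ?_, fun p _ hp hIp => ?_⟩
    · refine Fin.lastCases ?_ (fun j => ?_) i
      · simpa using hxI
      · simpa using hfI j
    · have hJp : J ≤ p := Ideal.span_le.2 (by
        rintro _ ⟨j, rfl⟩
        exact hp (Ideal.subset_span ⟨j.castSucc, by simp⟩))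
      have hxp : x ∈ p := hp (Ideal.subset_span ⟨Fin.last r, by simp⟩)
      obtain ⟨q, hq, hqp⟩ := Ideal.exists_minimalPrimes_le hJp
      have hqI : ¬ I ≤ q := fun h => hIp (h.trans hqp)
      have hxq : x ∉ q := hx q ⟨hq, hqI⟩
      have hlt : q < p := lt_of_le_of_ne hqp (fun h => hxq (h ▸ hxp))
      have : q.IsPrime := hq.1.1
      have h1 := hf q hq.1.2 hqI
      have h2 := Ideal.height_add_one_le_of_lt_of_isPrime hlt
      calc ((r + 1 : ℕ) : ℕ∞) = (r : ℕ∞) + 1 := by push_cast; rfl
        _ ≤ q.height + 1 := add_le_add_left h1 1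
        _ ≤ p.height := h2

end Groth.Agent.Lib.Helper26.ArithRank
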