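import Groth.Prelude.Def_W4c5adicflatcomplDec
import Mathlib

/-!
# Decaying functions (helper26 library for the `W4c5adicflatcompl` cluster)

* `mem_pow_smul_top_iff`: for `N` `I`-adically Hausdorff and `I ^ n` finitely generated, a decaying
  function lies in `I ^ n • ⊤` (inside the module of decaying functions) iff all its values lie in
  `I ^ n • ⊤`.
* `isAdicComplete_decaying`: decaying functions into a complete module form a complete module.
* `csum`: the convergent sum `∑ g z • f z` for `g` decaying and `f` into a complete module.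
-/

set_option autoImplicit false

namespace Groth.Agent.Lib.Helper26.Decay

open W4c5adicflatcompl Submodule Pointwise

section general

variable {A : Type*} [CommRing A] (I : Ideal A)

lemma map_mem_smul_top (J : Ideal A) {M N : Type*} [AddCommGroup M]
    [Module A M] [AddCommGroup N] [Module A N] (φ : M →ₗ[A] N) {x : M}
    (hx : x ∈ (J • ⊤ : Submodule A M)) : φ x ∈ (J • ⊤ : Submodule A N) := by
  refine Submodule.smul_induction_on hx (fun r hr m _ => ?_) (fun a b ha hb => ?_)
  · rw [map_smul]
    exact Submodule.smul_mem_smul hr Submodule.mem_top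
  · rw [map_add]
    exact Submodule.add_mem _ ha hb

lemma isAdicComplete_of_retract {F Q : Type*}
    [AddCommGroup F] [Module A F] [AddCommGroup Q] [Module A Q] [IsAdicComplete I F]
    (i : Q →ₗ[A] F) (r : F →ₗ[A] Q) (h : ∀ q, r (i q) = q) : IsAdicComplete I Q where
  haus' q hq := by
    have h0 : i q = 0 := IsHausdorff.haus (inferInstance : IsHausdorff I F) (i q) (fun n => by
      have := hq n
      rw [SModEq.zero] at this ⊢
      exact map_mem_smul_top _ i this)
    rw [← h q, h0, map_zero]
  prec' f hf := by
    obtain ⟨L, hL⟩ := IsPrecomplete.prec' (I := I) (fun n => i (f n)) (fun {m n} hmn => by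
      have := hf hmn
      rw [SModEq.sub_mem] at this ⊢
      rw [← map_sub]
      exact map_mem_smul_top _ i this)
    refine ⟨r L, fun n => ?_⟩
    have h1 := hL n
    rw [SModEq.sub_mem] at h1 ⊢
    have h2 := map_mem_smul_top _ r h1
    rwa [map_sub, h] at h2

lemma smul_mem_pow_smul_top {M : Type*} [AddCommGroup M] [Module A M] (n : ℕ) {a : A}
    (ha : a ∈ (I ^ n • ⊤ : Submodule A A)) (m : M) : a • m ∈ (I ^ n • ⊤ : Submodule A M) := by
  have : a ∈ I ^ n := by simpa using ha
  exact Submodule.smul_mem_smul this Submodule.mem_top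

lemma mem_pow_smul_top_self_iff (n : ℕ) (a : A) :
    a ∈ (I ^ n • ⊤ : Submodule A A) ↔ a ∈ I ^ n := by
  simp

/-- Coefficient extraction for `s • P`, `s` a finite set of scalars. -/
lemma mem_set_smul_finset {N : Type*} [AddCommGroup N] [Module A N] (s : Finset A)
    (P : Submodule A N) (x : N) (hx : x ∈ (s : Set A) • P) :
    ∃ c : A → N, (∀ a, c a ∈ P) ∧ x = ∑ a ∈ s, a • c a := by
  classical
  induction x, hx using Submodule.set_smul_inductionOn with
  | smul₀ hr hn =>
    rename_i r n
    refine ⟨Pi.single r n, fun a => ?_, ?_⟩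
    · by_cases h : a = r
      · subst h; simpa using hn
      · simp [h]
    · rw [Finset.sum_eq_single_of_mem r hr (fun b _ hb => by simp [hb])]
      simp
  | smul₁ r hm ih =>
    obtain ⟨c, hc, hxc⟩ := ih
    refine ⟨r • c, fun a => P.smul_mem r (hc a), ?_⟩
    rw [hxc, Finset.smul_sum]
    refine Finset.sum_congr rfl fun a _ => ?_
    simp only [Pi.smul_apply]
    rw [smul_comm]
  | add h1 h2 ih1 ih2 =>
    obtain ⟨c1, hc1, e1⟩ := ih1
    obtain ⟨c2, hc2, e2⟩ := ih2
    refine ⟨c1 + c2, fun a => P.add_mem (hc1 a) (hc2 a), ?_⟩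
    simp [e1, e2, smul_add, Finset.sum_add_distrib]
  | zero => exact ⟨0, fun _ => P.zero_mem, by simp⟩

/-- A level dichotomy for an antitone predicate on `ℕ` holding at `0`. -/
lemma level_dichotomy (P : ℕ → Prop) (hanti : ∀ p q, p ≤ q → P q → P p) (h0 : P 0) :
    (∀ p, P p) ∨ ∃ m, P m ∧ ∀ p, P p → p ≤ m := by
  classical
  by_cases h : ∀ p, P p
  · exact Or.inl h
  · right
    push Not at h
    refine ⟨Nat.find h - 1, ?_, fun p hp => ?_⟩
    · have hne : Nat.find h ≠ 0 := fun h' => (h' ▸ Nat.find_spec h) h0
      have := Nat.find_min h (show Nat.find h - 1 < Nat.find h by omega)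
      push Not at this
      exact this
    · by_contra hlt
      push Not at hlt
      exact Nat.find_spec h (hanti _ _ (by omega) hp)

end general


section key

variable {A : Type*} [CommRing A] (I : Ideal A) {Z : Type*} {N : Type*} [AddCommGroup N]
  [Module A N]

/-- Coefficients at the optimal level. -/
lemma exists_coeff [IsHausdorff I N] (n : ℕ) (s : Finset A) (hs : Ideal.span (s : Set A) = I ^ n)
    (x : N) (hx : x ∈ (I ^ n • ⊤ : Submodule A N)) :
    ∃ c : A → N, x = ∑ a ∈ s, a • c a ∧
      ∀ p : ℕ, x ∈ (I ^ (n + p) • ⊤ : Submodule A N) → ∀ a, c a ∈ (I ^ p • ⊤ : Submodule A N) := by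
  rcases level_dichotomy (fun p => x ∈ (I ^ (n + p) • ⊤ : Submodule A N))
    (fun p q hpq hq => Submodule.pow_smul_top_le I N (by omega) hq) (by simpa using hx) with h | h
  · have hx0 : x = 0 := IsHausdorff.haus ‹_› x fun q => by
      rw [SModEq.zero]
      exact Submodule.pow_smul_top_le I N (by omega : q ≤ n + q) (h q)
    exact ⟨0, by simp [hx0], fun _ _ _ => Submodule.zero_mem _⟩
  · obtain ⟨m, hm, hmax⟩ := h
    have heq : (I ^ (n + m) • ⊤ : Submodule A N) = (s : Set A) • (I ^ m • ⊤ : Submodule A N) := by
      rw [pow_add, Submodule.mul_smul, ← hs, Submodule.span_smul_eq]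
    have hm' : x ∈ (s : Set A) • (I ^ m • ⊤ : Submodule A N) := heq ▸ hm
    obtain ⟨c, hc, hxc⟩ := mem_set_smul_finset s _ x hm'
    exact ⟨c, hxc, fun p hp a => Submodule.pow_smul_top_le I N (hmax p hp) (hc a)⟩

/-- Evaluation of decaying functions at a point. -/
def ev (z : Z) : decaying I Z N →ₗ[A] N := (LinearMap.proj z).comp (decaying I Z N).subtype

@[simp] lemma ev_apply (z : Z) (f : decaying I Z N) : ev I z f = (f : Z → N) z := rfl

lemma mem_pow_smul_top_iff [IsHausdorff I N] (n : ℕ) (hfg : (I ^ n).FG) (f : decaying I Z N) :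
    f ∈ (I ^ n • ⊤ : Submodule A (decaying I Z N)) ↔
      ∀ z, (f : Z → N) z ∈ (I ^ n • ⊤ : Submodule A N) := by
  constructor
  · intro hf z
    exact map_mem_smul_top _ (ev I z) hf
  · intro hf
    obtain ⟨s, hs⟩ := hfg
    choose c hc1 hc2 using fun z => exists_coeff I n s hs _ (hf z)
    have hdec : ∀ a, (fun z => c z a) ∈ decaying I Z N := fun a p =>
      (f.2 (n + p)).subset fun z hz hfz => hz (hc2 z p hfz a)
    have : f = ∑ a ∈ s, a • (⟨fun z => c z a, hdec a⟩ : decaying I Z N) := by
      apply Subtype.ext
      funext z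
      simp only [Submodule.coe_sum, Submodule.coe_smul, Finset.sum_apply, Pi.smul_apply]
      exact hc1 z
    rw [this]
    refine Submodule.sum_mem _ fun a ha => Submodule.smul_mem_smul ?_ Submodule.mem_top
    rw [← hs]
    exact Ideal.subset_span ha

lemma mem_pow_smul_top_iff_of_noetherian [IsNoetherianRing A] [IsHausdorff I N] (n : ℕ)
    (f : decaying I Z N) :
    f ∈ (I ^ n • ⊤ : Submodule A (decaying I Z N)) ↔
      ∀ z, (f : Z → N) z ∈ (I ^ n • ⊤ : Submodule A N) :=
  mem_pow_smul_top_iff I n (IsNoetherian.noetherian _) f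

/-- Decaying functions into a complete module form a complete module. -/
theorem isAdicComplete_decaying [IsAdicComplete I N] (hfg : ∀ n, (I ^ n).FG) :
    IsAdicComplete I (decaying I Z N) where
  haus' f hf := by
    apply Subtype.ext
    funext z
    have : ∀ n, (f : Z → N) z ∈ (I ^ n • ⊤ : Submodule A N) := fun n =>
      (mem_pow_smul_top_iff I n (hfg n) f).1 (SModEq.zero.1 (hf n)) z
    exact IsHausdorff.haus (inferInstance : IsHausdorff I N) _ (fun n => SModEq.zero.2 (this n))
  prec' f hf := by
    have hpt : ∀ z, ∀ {m n : ℕ}, m ≤ n →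
        (f m : Z → N) z ≡ (f n : Z → N) z [SMOD (I ^ m • ⊤ : Submodule A N)] := by
      intro z m n hmn
      have := hf hmn
      rw [SModEq.sub_mem] at this ⊢
      exact map_mem_smul_top _ (ev I z) this
    choose L hL using fun z => IsPrecomplete.prec (inferInstance : IsPrecomplete I N)
      (f := fun n => (f n : Z → N) z) (hpt z)
    have hLdec : L ∈ decaying I Z N := fun p => ((f p).2 p).subset fun z hz hfz => hz (by
      have h1 := hL z p
      rw [SModEq.sub_mem] at h1
      have h2 := Submodule.sub_mem _ hfz h1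
      simpa using h2)
    refine ⟨⟨L, hLdec⟩, fun n => ?_⟩
    rw [SModEq.sub_mem]
    apply (mem_pow_smul_top_iff I n (hfg n) _).2
    intro z
    exact SModEq.sub_mem.1 (hL z n)

theorem isAdicComplete_decaying_of_noetherian [IsNoetherianRing A] [IsAdicComplete I N] :
    IsAdicComplete I (decaying I Z N) :=
  isAdicComplete_decaying I (fun _ => IsNoetherian.noetherian _)

end key

section csum

variable {B : Type*} [CommRing B] (J : Ideal B) {Z : Type*} {N : Type*} [AddCommGroup N]
  [Module B N]

/-- The finite set of points where a decaying function is not in `J ^ n`. -/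
noncomputable def supp (g : decaying J Z B) (n : ℕ) : Finset Z := (g.2 n).toFinset

lemma mem_supp (g : decaying J Z B) (n : ℕ) (z : Z) :
    z ∈ supp J g n ↔ (g : Z → B) z ∉ (J ^ n • ⊤ : Submodule B B) := by
  simp [supp]

lemma supp_mono (g : decaying J Z B) {m n : ℕ} (h : m ≤ n) : supp J g m ⊆ supp J g n := by
  intro z hz
  rw [mem_supp] at hz ⊢
  exact fun h' => hz (Submodule.pow_smul_top_le J B h h')

lemma sum_sub_supp_mem (f : Z → N) (g : decaying J Z B) (n : ℕ) (T : Finset Z)
    (hT : supp J g n ⊆ T) :
    ∑ z ∈ T, (g : Z → B) z • f z - ∑ z ∈ supp J g n, (g : Z → B) z • f z ∈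
      (J ^ n • ⊤ : Submodule B N) := by
  classical
  rw [← Finset.sum_sdiff hT, add_sub_cancel_right]
  refine Submodule.sum_mem _ fun z hz => ?_
  have : z ∉ supp J g n := (Finset.mem_sdiff.1 hz).2
  rw [mem_supp, not_not] at this
  exact smul_mem_pow_smul_top J n this (f z)

variable [IsAdicComplete J N]

lemma exists_csum (f : Z → N) (g : decaying J Z B) : ∃ L : N, ∀ n, ∀ T : Finset Z,
    supp J g n ⊆ T → L - ∑ z ∈ T, (g : Z → B) z • f z ∈ (J ^ n • ⊤ : Submodule B N) := by
  obtain ⟨L, hL⟩ := IsPrecomplete.prec (inferInstance : IsPrecomplete J N)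
    (f := fun n => ∑ z ∈ supp J g n, (g : Z → B) z • f z) (fun {m n} hmn => by
      rw [SModEq.sub_mem, ← neg_mem_iff, neg_sub]
      exact sum_sub_supp_mem J f g m _ (supp_mono J g hmn))
  refine ⟨L, fun n T hT => ?_⟩
  have h1 := SModEq.sub_mem.1 (hL n)
  have h2 := sum_sub_supp_mem J f g n T hT
  have := Submodule.add_mem _ h1 h2
  rw [← neg_mem_iff]
  convert this using 1
  abel

/-- The convergent sum `∑ z, g z • f z`. -/
noncomputable def csum (f : Z → N) (g : decaying J Z B) : N := (exists_csum J f g).choose

lemma csum_spec (f : Z → N) (g : decaying J Z B) (n : ℕ) (T : Finset Z) (hT : supp J g n ⊆ T) :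
    csum J f g - ∑ z ∈ T, (g : Z → B) z • f z ∈ (J ^ n • ⊤ : Submodule B N) :=
  (exists_csum J f g).choose_spec n T hT

lemma csum_unique (f : Z → N) (g : decaying J Z B) (L : N)
    (hL : ∀ n, ∃ T : Finset Z, supp J g n ⊆ T ∧
      L - ∑ z ∈ T, (g : Z → B) z • f z ∈ (J ^ n • ⊤ : Submodule B N)) : csum J f g = L := by
  rw [IsHausdorff.eq_iff_smodEq (I := J)]
  intro n
  obtain ⟨T, hT, hLT⟩ := hL n
  rw [SModEq.sub_mem]
  have := Submodule.sub_mem _ (csum_spec J f g n T hT) hLT
  convert this using 1
  abel

lemma csum_add (f : Z → N) (g h : decaying J Z B) :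
    csum J f (g + h) = csum J f g + csum J f h := by
  classical
  apply csum_unique
  intro n
  refine ⟨supp J g n ∪ supp J h n ∪ supp J (g + h) n, Finset.subset_union_right, ?_⟩
  have h1 := csum_spec J f g n (supp J g n ∪ supp J h n ∪ supp J (g + h) n)
    (fun z hz => by simp [hz])
  have h2 := csum_spec J f h n (supp J g n ∪ supp J h n ∪ supp J (g + h) n)
    (fun z hz => by simp [hz])
  have := Submodule.add_mem _ h1 h2
  convert this using 1
  simp only [Submodule.coe_add, Pi.add_apply, add_smul, Finset.sum_add_distrib]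
  abel

lemma csum_smul (f : Z → N) (b : B) (g : decaying J Z B) :
    csum J f (b • g) = b • csum J f g := by
  classical
  apply csum_unique
  intro n
  refine ⟨supp J g n ∪ supp J (b • g) n, Finset.subset_union_right, ?_⟩
  have h1 := csum_spec J f g n (supp J g n ∪ supp J (b • g) n) Finset.subset_union_left
  have := Submodule.smul_mem _ b h1
  convert this using 1
  simp only [Submodule.coe_smul, Pi.smul_apply, smul_eq_mul, mul_smul, smul_sub,
    Finset.smul_sum]

/-- The convergent sum as a linear map. -/
noncomputable def csumL (f : Z → N) : decaying J Z B →ₗ[B] N where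
  toFun := csum J f
  map_add' := csum_add J f
  map_smul' := csum_smul J f

@[simp] lemma csumL_apply (f : Z → N) (g : decaying J Z B) : csumL J f g = csum J f g := rfl

/-- On a function supported in a finite set, the convergent sum is the finite sum. -/
lemma csum_of_support (f : Z → N) (g : decaying J Z B) (S : Finset Z)
    (hS : ∀ z, z ∉ S → (g : Z → B) z = 0) :
    csum J f g = ∑ z ∈ S, (g : Z → B) z • f z := by
  classical
  apply csum_unique
  intro n
  refine ⟨S ∪ supp J g n, Finset.subset_union_right, ?_⟩
  have : ∑ z ∈ S ∪ supp J g n, (g : Z → B) z • f z = ∑ z ∈ S, (g : Z → B) z • f z := by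
    symm
    apply Finset.sum_subset Finset.subset_union_left
    intro z _ hz
    simp [hS z hz]
  rw [this, sub_self]
  exact Submodule.zero_mem _

lemma csum_single [DecidableEq Z] (f : Z → N) (z : Z) :
    csum J f (single J z (1 : B)) = f z := by
  rw [csum_of_support J f _ {z} (fun z' hz' => by
    simp only [coe_single]
    rw [Pi.single_eq_of_ne (by simpa using hz')])]
  simp

end csum

section lift

variable {A : Type*} [CommRing A] (I : Ideal A) {Z : Type*}

/-- Lift along a surjection at the optimal level. -/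
lemma exists_lift_level {M M'' : Type*} [AddCommGroup M] [Module A M] [AddCommGroup M'']
    [Module A M''] [IsHausdorff I M''] (φ : M →ₗ[A] M'') (hφ : Function.Surjective φ) (y : M'') :
    ∃ x : M, φ x = y ∧ ∀ p, y ∈ (I ^ p • ⊤ : Submodule A M'') → x ∈ (I ^ p • ⊤ : Submodule A M) := by
  rcases level_dichotomy (fun p => y ∈ (I ^ p • ⊤ : Submodule A M''))
    (fun p q hpq hq => Submodule.pow_smul_top_le I M'' hpq hq) (by simp) with h | h
  · have hy0 : y = 0 := IsHausdorff.haus ‹_› y fun q => by
      rw [SModEq.zero]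
      exact h q
    exact ⟨0, by simp [hy0], fun _ _ => Submodule.zero_mem _⟩
  · obtain ⟨m, hm, hmax⟩ := h
    have hrange : (I ^ m • ⊤ : Submodule A M'') = (I ^ m • ⊤ : Submodule A M).map φ := by
      rw [Submodule.map_smul'', Submodule.map_top, LinearMap.range_eq_top.2 hφ]
    rw [hrange] at hm
    obtain ⟨x, hx, hxy⟩ := hm
    exact ⟨x, hxy, fun p hp => Submodule.pow_smul_top_le I M (hmax p hp) hx⟩

/-- Decaying functions lift along a surjection onto a Hausdorff module. -/
lemma exists_decaying_lift {M M'' : Type*} [AddCommGroup M] [Module A M] [AddCommGroup M'']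
    [Module A M''] [IsHausdorff I M''] (φ : M →ₗ[A] M'') (hφ : Function.Surjective φ)
    (g : Z → M'') (hg : g ∈ decaying I Z M'') :
    ∃ f : Z → M, f ∈ decaying I Z M ∧ ∀ z, φ (f z) = g z := by
  choose f hf1 hf2 using fun z => exists_lift_level I φ hφ (g z)
  exact ⟨f, fun p => (hg p).subset fun z hz hgz => hz (hf2 z p hgz), hf1⟩

end lift

section hat

variable {A : Type*} [CommRing A] (I : Ideal A) {Z : Type*}

lemma hat_smul_top_coe (n : ℕ) {P : Type*} [AddCommGroup P] [Module A P]
    [Module (AdicCompletion I A) P] [IsScalarTower A (AdicCompletion I A) P] :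
    (((I.map (algebraMap A (AdicCompletion I A))) ^ n • ⊤ :
      Submodule (AdicCompletion I A) P) : Set P) = ((I ^ n • ⊤ : Submodule A P) : Set P) := by
  have := Submodule.restrictScalars_map_smul_eq (R := AdicCompletion I A) (S := A) (I ^ n)
    (⊤ : Submodule (AdicCompletion I A) P)
  rw [Submodule.restrictScalars_top, Ideal.map_pow] at this
  rw [← this]
  rfl

lemma mem_hat_iff (n : ℕ) {P : Type*} [AddCommGroup P] [Module A P]
    [Module (AdicCompletion I A) P] [IsScalarTower A (AdicCompletion I A) P] (x : P) :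
    x ∈ ((I.map (algebraMap A (AdicCompletion I A))) ^ n • ⊤ :
      Submodule (AdicCompletion I A) P) ↔ x ∈ (I ^ n • ⊤ : Submodule A P) := by
  rw [← SetLike.mem_coe, hat_smul_top_coe, SetLike.mem_coe]

/-- Decaying functions into the completion, read over the completion. -/
def toHatDec : decaying I Z (AdicCompletion I A) →ₗ[A]
    decaying (I.map (algebraMap A (AdicCompletion I A))) Z (AdicCompletion I A) where
  toFun g := ⟨g.1, fun n => by simpa only [mem_hat_iff] using g.2 n⟩
  map_add' _ _ := rfl
  map_smul' _ _ := rfl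

variable [IsNoetherianRing A]

theorem exists_hatLift (M : Type*) [AddCommGroup M] [Module A M] [IsAdicComplete I M]
    [DecidableEq Z] (f : Z → M) :
    ∃ φ : decaying I Z (AdicCompletion I A) →ₗ[A] M, ∀ z, φ (single I z 1) = f z := by
  have hfg : I.FG := IsNoetherian.noetherian I
  have h1 : IsAdicComplete I (AdicCompletion I M) := AdicCompletion.isAdicComplete hfg
  have h2 : IsAdicComplete (I.map (algebraMap A (AdicCompletion I A))) (AdicCompletion I M) :=
    (IsAdicComplete.map_algebraMap_iff _ _).2 h1
  let F : Z → AdicCompletion I M := fun z => AdicCompletion.of I M (f z)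
  let Φ := csumL (I.map (algebraMap A (AdicCompletion I A))) F
  refine ⟨(AdicCompletion.ofLinearEquiv I M).symm.toLinearMap ∘ₗ (Φ.restrictScalars A) ∘ₗ
    toHatDec I, fun z => ?_⟩
  have : toHatDec I (single I z (1 : AdicCompletion I A)) =
      single (I.map (algebraMap A (AdicCompletion I A))) z 1 := Subtype.ext rfl
  simp only [LinearMap.coe_comp, Function.comp_apply, LinearMap.coe_restrictScalars,
    LinearEquiv.coe_coe]
  rw [this]
  simp only [Φ, csumL_apply]
  rw [csum_single]
  exact AdicCompletion.ofLinearEquiv_symm_of (I := I) (f z)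

lemma of_sub_mem (n : ℕ) (y : AdicCompletion I A) :
    ∃ a : A, AdicCompletion.of I A a - y ∈ (I ^ n • ⊤ : Submodule A (AdicCompletion I A)) := by
  have hfg : I.FG := IsNoetherian.noetherian I
  obtain ⟨a, ha⟩ := Submodule.Quotient.mk_surjective _ (AdicCompletion.eval I A n y)
  refine ⟨a, ?_⟩
  rw [AdicCompletion.pow_smul_top_eq_ker_eval hfg, LinearMap.mem_ker, map_sub,
    AdicCompletion.eval_of, Submodule.mkQ_apply, ha, sub_self]

theorem hat_ext (M : Type*) [AddCommGroup M] [Module A M] [IsHausdorff I M]
    [DecidableEq Z] (φ₁ φ₂ : decaying I Z (AdicCompletion I A) →ₗ[A] M)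
    (h : ∀ z, φ₁ (single I z 1) = φ₂ (single I z 1)) : φ₁ = φ₂ := by
  have hfg : I.FG := IsNoetherian.noetherian I
  have : IsAdicComplete I (AdicCompletion I A) := AdicCompletion.isAdicComplete hfg
  ext g
  rw [IsHausdorff.eq_iff_smodEq (I := I)]
  intro n
  rw [SModEq.sub_mem, ← LinearMap.sub_apply]
  set ψ := φ₁ - φ₂ with hψdef
  have hψ : ∀ z, ψ (single I z 1) = 0 := fun z => by
    simp [hψdef, h z]
  choose a ha using fun z => of_sub_mem I n ((g : Z → AdicCompletion I A) z)
  let S : Finset Z := (g.2 n).toFinset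
  let hh : decaying I Z (AdicCompletion I A) := ∑ z ∈ S, a z • single I z 1
  have hgh : g - hh ∈ (I ^ n • ⊤ : Submodule A (decaying I Z (AdicCompletion I A))) := by
    rw [mem_pow_smul_top_iff_of_noetherian I n]
    intro z
    have hcoe : ((hh : decaying I Z (AdicCompletion I A)) : Z → AdicCompletion I A) z =
        if z ∈ S then AdicCompletion.of I A (a z) else 0 := by
      simp only [hh, Submodule.coe_sum, Submodule.coe_smul, coe_single, Finset.sum_apply,
        Pi.smul_apply]
      split_ifs with hz
      · rw [Finset.sum_eq_single_of_mem z hz (fun b _ hb => by simp [Ne.symm hb])]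
        simp [Algebra.smul_def, AdicCompletion.algebraMap_apply]
      · exact Finset.sum_eq_zero fun b hb => by
          have : b ≠ z := fun hbz => hz (hbz ▸ hb)
          simp [Ne.symm this]
    simp only [Submodule.coe_sub, Pi.sub_apply, hcoe]
    split_ifs with hz
    · rw [← neg_mem_iff, neg_sub]
      exact ha z
    · simp only [S, Set.Finite.mem_toFinset, Set.mem_ofPred_eq, not_not] at hz
      simpa using hz
  have hsplit : ψ g = ψ (g - hh) + ψ hh := by rw [map_sub]; abel
  have hhh : ψ hh = 0 := by
    simp only [hh, map_sum, map_smul, hψ, smul_zero, Finset.sum_const_zero]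
  rw [hsplit, hhh, add_zero]
  exact map_mem_smul_top _ ψ hgh

theorem existsUnique_hatLift (M : Type*) [AddCommGroup M] [Module A M] [IsAdicComplete I M]
    [DecidableEq Z] (f : Z → M) :
    ∃! φ : decaying I Z (AdicCompletion I A) →ₗ[A] M, ∀ z, φ (single I z 1) = f z := by
  obtain ⟨φ, hφ⟩ := exists_hatLift I M f
  exact ⟨φ, hφ, fun ψ hψ => hat_ext I M ψ φ (fun z => by rw [hψ z, hφ z])⟩

end hat

section tensor

open TensorProduct

variable {A : Type*} [CommRing A] (I : Ideal A) (Z : Type*)

/-- Artin–Rees: decaying in `X` with values in `K` implies decaying in `K`. -/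
lemma decaying_submodule [IsNoetherianRing A] {X : Type*} [AddCommGroup X] [Module A X]
    [Module.Finite A X] (K : Submodule A X) (f : Z → K)
    (hf : (fun z => (f z : X)) ∈ decaying I Z X) : f ∈ decaying I Z K := by
  intro n
  obtain ⟨k, hk⟩ := Ideal.exists_pow_inf_eq_pow_smul I K
  refine (hf (n + k)).subset fun z hz hfz => hz ?_
  have h1 : (f z : X) ∈ (I ^ (n + k) • ⊤ : Submodule A X) ⊓ K := ⟨hfz, (f z).2⟩
  rw [hk (n + k) (by omega), Nat.add_sub_cancel] at h1
  have h2 : (f z : X) ∈ (I ^ n • ⊤ : Submodule A K).map K.subtype := by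
    rw [Submodule.map_smul'', Submodule.map_top, Submodule.range_subtype]
    exact Submodule.smul_mono le_rfl inf_le_right h1
  obtain ⟨y, hy, hyz⟩ := h2
  have : y = f z := Subtype.ext hyz
  rw [← this]
  exact hy

/-- The canonical map `X ⊗ D(Z, A) → (Z → X)`. -/
noncomputable def Ψ (X : Type*) [AddCommGroup X] [Module A X] :
    X ⊗[A] decaying I Z A →ₗ[A] (Z → X) :=
  (TensorProduct.piScalarRightHom A A X Z) ∘ₗ ((decaying I Z A).subtype.lTensor X)

variable {Z}

@[simp] lemma Ψ_tmul (X : Type*) [AddCommGroup X] [Module A X] (x : X) (g : decaying I Z A) :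
    Ψ I Z X (x ⊗ₜ g) = fun z => (g : Z → A) z • x := by
  simp [Ψ]

lemma Ψ_natural {X Y : Type*} [AddCommGroup X] [Module A X] [AddCommGroup Y] [Module A Y]
    (u : X →ₗ[A] Y) (t : X ⊗[A] decaying I Z A) :
    Ψ I Z Y (u.rTensor _ t) = fun z => u (Ψ I Z X t z) := by
  induction t using TensorProduct.induction_on with
  | zero => funext z; simp
  | tmul x g => funext z; simp
  | add a b ha hb => funext z; simp only [map_add, ha, hb, Pi.add_apply]

lemma Ψ_mem (X : Type*) [AddCommGroup X] [Module A X] (t : X ⊗[A] decaying I Z A) :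
    Ψ I Z X t ∈ decaying I Z X := by
  induction t using TensorProduct.induction_on with
  | zero => simp
  | tmul x g =>
    rw [Ψ_tmul]
    intro n
    refine (g.2 n).subset fun z hz hgz => hz ?_
    exact smul_mem_pow_smul_top I n hgz x
  | add a b ha hb => rw [map_add]; exact (decaying I Z X).add_mem ha hb

lemma Ψ_injective_pi (k : ℕ) : Function.Injective (Ψ I Z (Fin k → A)) := by
  let e : (Fin k → A) ⊗[A] decaying I Z A ≃ₗ[A] (Fin k → decaying I Z A) :=
    (TensorProduct.comm A (Fin k → A) (decaying I Z A)).trans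
      (TensorProduct.piScalarRight A A (decaying I Z A) (Fin k))
  have key : ∀ t z i, Ψ I Z (Fin k → A) t z i = ((e t i : decaying I Z A) : Z → A) z := by
    intro t
    induction t using TensorProduct.induction_on with
    | zero => intro z i; simp
    | tmul v d =>
      intro z i
      simp [e, mul_comm]
    | add a b ha hb =>
      intro z i
      simp only [map_add, Pi.add_apply, ha, hb, Submodule.coe_add]
  rw [← LinearMap.ker_eq_bot, LinearMap.ker_eq_bot']
  intro t ht
  apply e.injective
  rw [map_zero]
  funext i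
  apply Subtype.ext
  funext z
  have := key t z i
  rw [ht] at this
  simpa using this.symm

variable [IsNoetherianRing A] [IsAdicComplete I A]

lemma exists_Ψ_eq (X : Type*) [AddCommGroup X] [Module A X] [Module.Finite A X]
    (h : Z → X) (hh : h ∈ decaying I Z X) : ∃ t, Ψ I Z X t = h := by
  classical
  have : IsHausdorff I X := IsHausdorff.of_le_jacobson I X (IsAdicComplete.le_jacobson_bot I)
  obtain ⟨k, π, hπ⟩ := Module.Finite.exists_fin' A X
  obtain ⟨h', hh'dec, hh'⟩ := exists_decaying_lift I π hπ h hh
  have hcomp : ∀ i, (fun z => h' z i) ∈ decaying I Z A := fun i n =>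
    (hh'dec n).subset fun z hz hz' => hz (map_mem_smul_top _ (LinearMap.proj i) hz')
  refine ⟨∑ i, π (Pi.single i 1) ⊗ₜ ⟨fun z => h' z i, hcomp i⟩, ?_⟩
  funext z
  simp only [map_sum, Ψ_tmul, Finset.sum_apply]
  rw [← hh' z]
  conv_rhs => rw [← Finset.univ_sum_single (h' z)]
  rw [map_sum]
  refine Finset.sum_congr rfl fun i _ => ?_
  rw [← map_smul]
  congr 1
  ext j
  simp [Pi.single_apply]

lemma Ψ_injective (X : Type*) [AddCommGroup X] [Module A X] [Module.Finite A X] :
    Function.Injective (Ψ I Z X) := by
  obtain ⟨k, π, hπ⟩ := Module.Finite.exists_fin' A X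
  rw [← LinearMap.ker_eq_bot, LinearMap.ker_eq_bot']
  intro t ht
  obtain ⟨t', rfl⟩ := LinearMap.rTensor_surjective (decaying I Z A) hπ t
  set K := LinearMap.ker π
  have hu : ∀ z, Ψ I Z (Fin k → A) t' z ∈ K := by
    intro z
    have := congr_fun (Ψ_natural I π t') z
    rw [ht] at this
    exact this.symm
  let uK : Z → K := fun z => ⟨Ψ I Z (Fin k → A) t' z, hu z⟩
  have huK : uK ∈ decaying I Z K := decaying_submodule I Z K uK (Ψ_mem I _ t')
  obtain ⟨t'', ht''⟩ := exists_Ψ_eq I K uK huK
  have h1 : (K.subtype.rTensor (decaying I Z A)) t'' = t' := by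
    apply Ψ_injective_pi I k
    rw [Ψ_natural, ht'']
    rfl
  rw [← h1, ← LinearMap.rTensor_comp_apply]
  have : π ∘ₗ K.subtype = 0 := by
    ext x
    simp [K]
  rw [this, LinearMap.rTensor_zero, LinearMap.zero_apply]

end tensor

section flat

variable {A : Type*} [CommRing A] (I : Ideal A) (Z : Type*)

theorem flat_decaying [IsNoetherianRing A] [IsAdicComplete I A] :
    Module.Flat A (decaying I Z A) := by
  rw [Module.Flat.iff_rTensor_injective']
  intro J
  have hJ : Module.Finite A J := inferInstance
  have hinj := Ψ_injective I (Z := Z) J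
  intro a b hab
  apply hinj
  have h1 := Ψ_natural I J.subtype a
  have h2 := Ψ_natural I J.subtype b
  funext z
  apply Subtype.ext
  have := congr_fun (h1.symm.trans ((congrArg _ hab).trans h2)) z
  exact this

variable {Z}

/-- Decaying functions are functorial for linear equivalences. -/
def decayingCongr {N N' : Type*} [AddCommGroup N] [Module A N] [AddCommGroup N'] [Module A N']
    (e : N ≃ₗ[A] N') : decaying I Z N ≃ₗ[A] decaying I Z N' where
  toFun g := ⟨fun z => e ((g : Z → N) z), fun n => (g.2 n).subset fun z hz hgz => hz (by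
      have := map_mem_smul_top _ e.toLinearMap hgz
      simpa using this)⟩
  invFun g := ⟨fun z => e.symm ((g : Z → N') z), fun n => (g.2 n).subset fun z hz hgz => hz (by
      have := map_mem_smul_top _ e.symm.toLinearMap hgz
      simpa using this)⟩
  map_add' g h := by
    apply Subtype.ext; funext z; simp
  map_smul' a g := by
    apply Subtype.ext; funext z; simp
  left_inv g := by
    apply Subtype.ext; funext z; simp
  right_inv g := by
    apply Subtype.ext; funext z; simp

end flat

section free

open IsLocalRing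

variable {A : Type*} [CommRing A] [IsNoetherianRing A] [IsLocalRing A]
  [IsAdicComplete (maximalIdeal A) A]

/-- A flat `m`-adically complete module over a complete Noetherian local ring is isomorphic to
decaying functions on (a lift of) a basis of `M/mM`. -/
theorem exists_equiv_decaying_of_flat (M : Type*) [AddCommGroup M] [Module A M]
    [Module.Flat A M] [IsAdicComplete (maximalIdeal A) M] :
    ∃ ι : Set (M ⧸ (maximalIdeal A • ⊤ : Submodule A M)),
      Nonempty (M ≃ₗ[A] decaying (maximalIdeal A) ι A) := by
  classical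
  set m := maximalIdeal A with hm
  have hmax : m.IsMaximal := IsLocalRing.maximalIdeal.isMaximal A
  let _ : Field (A ⧸ m) := Ideal.Quotient.field m
  let V := M ⧸ (m • ⊤ : Submodule A M)
  let b := Module.Basis.ofVectorSpace (A ⧸ m) V
  let ι := Module.Basis.ofVectorSpaceIndex (A ⧸ m) V
  choose mz hmz using fun i : ι => Submodule.Quotient.mk_surjective (m • ⊤ : Submodule A M) (b i)
  let Φ := csumL m mz
  have hD : IsAdicComplete m (decaying m ι A) := isAdicComplete_decaying_of_noetherian m
  have hsurj : Function.Surjective Φ := by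
    apply surjective_of_mkQ_comp_surjective (I := m)
    intro y
    let c := b.repr y
    choose a ha using fun i => Ideal.Quotient.mk_surjective (I := m) (c i)
    refine ⟨∑ i ∈ c.support, a i • single m i 1, ?_⟩
    simp only [LinearMap.comp_apply, map_sum, map_smul, Φ, csumL_apply, csum_single,
      Submodule.mkQ_apply]
    conv_rhs => rw [← b.linearCombination_repr y]
    rw [Finsupp.linearCombination_apply, Finsupp.sum]
    refine Finset.sum_congr rfl fun i _ => ?_
    rw [← hmz i, ← Submodule.Quotient.mk_smul, ← Module.Quotient.mk_smul_mk, ha i]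
  have base : ∀ g : decaying m ι A, Φ g = 0 → ∀ z, (g : ι → A) z ∈ m := by
    intro g hg z
    by_contra hz
    have hS := csum_spec m mz g 1 (supp m g 1) subset_rfl
    rw [show csum m mz g = 0 from hg, zero_sub, neg_mem_iff, pow_one] at hS
    have h0 : ∑ z' ∈ supp m g 1, (Ideal.Quotient.mk m ((g : ι → A) z')) • b z' = 0 := by
      have := (Submodule.Quotient.mk_eq_zero _).2 hS
      rw [← Submodule.mkQ_apply, map_sum] at this
      rw [← this]
      refine Finset.sum_congr rfl fun i _ => ?_
      rw [Submodule.mkQ_apply, ← hmz i, Module.Quotient.mk_smul_mk]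
    have hzS : z ∈ supp m g 1 := by
      rw [mem_supp]
      simpa using hz
    have := linearIndependent_iff'.1 b.linearIndependent (supp m g 1) _ h0 z hzS
    exact hz (Ideal.Quotient.eq_zero_iff_mem.1 this)
  have hinj : Function.Injective Φ := by
    rw [← LinearMap.ker_eq_bot, LinearMap.ker_eq_bot']
    intro g hg
    have hall : ∀ n z, (g : ι → A) z ∈ m ^ n := by
      intro n
      induction n with
      | zero => simp
      | succ n ih =>
        have hgm : g ∈ (m ^ n • ⊤ : Submodule A (decaying m ι A)) :=
          (mem_pow_smul_top_iff_of_noetherian m n g).2 (fun z => by simpa using ih z)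
        obtain ⟨s, hs⟩ := (IsNoetherian.noetherian (m ^ n) : (m ^ n).FG)
        rw [← hs, Submodule.span_smul_eq] at hgm
        obtain ⟨c, -, hgc⟩ := mem_set_smul_finset s _ g hgm
        have hrel : ∑ i : s, (i : A) • Φ (c i) = 0 := by
          rw [← hg, hgc, map_sum, ← Finset.sum_coe_sort s]
          simp only [map_smul]
        obtain ⟨k, B, y, hxy, hB⟩ := Module.Flat.isTrivialRelation_of_sum_smul_eq_zero hrel
        choose h hh using fun j => hsurj (y j)
        let c' : s → decaying m ι A := fun i => c i - ∑ j, B i j • h j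
        have hc' : ∀ i, Φ (c' i) = 0 := by
          intro i
          simp only [c', map_sub, map_sum, map_smul, hh, ← hxy i, sub_self]
        have hg' : g = ∑ i : s, (i : A) • c' i := by
          rw [hgc, ← Finset.sum_coe_sort s]
          simp only [c', smul_sub, Finset.sum_sub_distrib, Finset.smul_sum, smul_smul]
          rw [Finset.sum_comm (s := Finset.univ) (t := Finset.univ)]
          simp only [← Finset.sum_smul, hB, zero_smul, Finset.sum_const_zero, sub_zero]
        intro z
        rw [hg']
        simp only [Submodule.coe_sum, Submodule.coe_smul, Finset.sum_apply, Pi.smul_apply,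
          smul_eq_mul]
        refine Ideal.sum_mem _ fun i _ => ?_
        rw [pow_succ]
        exact Ideal.mul_mem_mul (hs ▸ Ideal.subset_span i.2) (base _ (hc' i) z)
    apply Subtype.ext
    funext z
    exact IsHausdorff.haus (inferInstance : IsHausdorff m A) _ (fun n => by
      rw [SModEq.zero]
      simpa using hall n z)
  exact ⟨ι, ⟨(LinearEquiv.ofBijective Φ ⟨hinj, hsurj⟩).symm⟩⟩

end free

end Groth.Agent.Lib.Helper26.Decay
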